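import Groth.Agent.DCohLib.ProjClosed
import Groth.Agent.DCohLib.Bridge
import Groth.Agent.ModTensor.Flat
import Groth.Agent.SpSeqLib.DerivedComp
import Groth.Agent.SpSeqLib.Acyclic
import Groth.Agent.PullbackMod.LocFree
import Groth.Prelude.Def_ModSite2

/-!
# Change of rings along a closed immersion

For a closed immersion `i : X ⟶ P` and an `O_X`-module `A`, the functor `G ↦ i^* ℋom(i_* A, G)` is
right adjoint to `M ↦ i_*(M ⊗ A)`.
-/

set_option autoImplicit false
set_option linter.style.haveILetI false

universe u

open CategoryTheory CategoryTheory.Limits AlgebraicGeometry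
open Groth.Agent.DCohLib

noncomputable section

namespace Groth.Agent.ChRingLib

variable {X P : Scheme.{u}} (i : X ⟶ P)

/-- Tensoring on the right. -/
abbrev tR {Y : Scheme.{u}} (N : Y.Modules) : Y.Modules ⥤ Y.Modules :=
  (DCoh.tensorBi (X := Y)).flip.obj N

/-- The adjunction `i^* ⊣ i_*`. -/
abbrev adjI : Scheme.Modules.pullback i ⊣ Scheme.Modules.pushforward i :=
  Scheme.Modules.pullbackPushforwardAdjunction i

variable [IsClosedImmersion i]

theorem isIso_counit : IsIso (adjI i).counit :=
  haveI : ∀ M, IsIso ((adjI i).counit.app M) := isIso_counit_closedImmersion i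
  NatIso.isIso_of_isIso_app _

/-- The direct image along a closed immersion is fully faithful. -/
def ffPush : (Scheme.Modules.pushforward i).FullyFaithful :=
  haveI := isIso_counit i
  (adjI i).fullyFaithfulROfIsIsoCounit

/-- Tensoring with a direct image, by the projection formula. -/
def tensPushRight (A : X.Modules) : tR ((Scheme.Modules.pushforward i).obj A) ≅
    Scheme.Modules.pullback i ⋙ (DCoh.tensorBi (X := X)).obj A ⋙ Scheme.Modules.pushforward i :=
  ModTensor.tensorSymm P.sheaf ((Scheme.Modules.pushforward i).obj A) ≪≫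
    NatIso.ofComponents (F := (DCoh.tensorBi (X := P)).obj ((Scheme.Modules.pushforward i).obj A))
      (G := Scheme.Modules.pullback i ⋙ (DCoh.tensorBi (X := X)).obj A ⋙ Scheme.Modules.pushforward i)
      (fun N => projIso i A N) (fun g => projIso_natural_right i A g)

/-- A direct image tensored with a direct image. -/
def tensPush (A : X.Modules) :
    Scheme.Modules.pushforward i ⋙ tR ((Scheme.Modules.pushforward i).obj A) ≅
      tR A ⋙ Scheme.Modules.pushforward i :=
  haveI := isIso_counit i
  NatIso.ofComponents (F := Scheme.Modules.pushforward i ⋙ tR ((Scheme.Modules.pushforward i).obj A))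
      (G := tR ((Scheme.Modules.pullback i).obj ((Scheme.Modules.pushforward i).obj A)) ⋙
        Scheme.Modules.pushforward i)
      (fun M => projIso i M ((Scheme.Modules.pushforward i).obj A))
      (fun g => projIso_natural_left i g _) ≪≫
    Functor.isoWhiskerRight ((DCoh.tensorBi (X := X)).flip.mapIso ((asIso (adjI i).counit).app A)) _

section

variable (A : X.Modules) [ModSite.HasSheafHom (O := P.sheaf) ((Scheme.Modules.pushforward i).obj A)]

/-- `ℋom(i_* A, -)` on the target. -/
abbrev homPush : P.Modules ⥤ P.Modules :=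
  ModSite.sheafHom (O := P.sheaf) ((Scheme.Modules.pushforward i).obj A)

/-- The adjunction defining `ℋom(i_* A, -)`. -/
abbrev homPushAdj : tR ((Scheme.Modules.pushforward i).obj A) ⊣ homPush i A :=
  ModSite.sheafHomAdj (O := P.sheaf) ((Scheme.Modules.pushforward i).obj A)

/-- `ℋom(i_* A, G)` comes from the closed subscheme. -/
theorem isIso_unit_homPush (G : P.Modules) : IsIso ((adjI i).unit.app ((homPush i A).obj G)) := by
  let H := (homPush i A).obj G
  let η := (adjI i).unit.app H
  haveI := isIso_counit i
  haveI : IsIso ((Scheme.Modules.pullback i).map η) :=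
    haveI : IsIso ((Scheme.Modules.pullback i).map η ≫
        (adjI i).counit.app ((Scheme.Modules.pullback i).obj H)) :=
      ((adjI i).left_triangle_components H).symm ▸ inferInstance
    IsIso.of_isIso_comp_right _ ((adjI i).counit.app ((Scheme.Modules.pullback i).obj H))
  let L := tR ((Scheme.Modules.pushforward i).obj A)
  haveI : IsIso (L.map η) := (NatIso.isIso_map_iff (tensPushRight i A) η).2
    (inferInstanceAs (IsIso ((Scheme.Modules.pushforward i).map
      (((DCoh.tensorBi (X := X)).obj A).map ((Scheme.Modules.pullback i).map η)))))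
  let adj := homPushAdj i A
  let r : (Scheme.Modules.pushforward i).obj ((Scheme.Modules.pullback i).obj H) ⟶ H :=
    adj.homEquiv _ _ (inv (L.map η) ≫ adj.counit.app G)
  have h1 : η ≫ r = 𝟙 H := by
    show η ≫ adj.homEquiv _ _ _ = _
    rw [← adj.homEquiv_naturality_left, IsIso.hom_inv_id_assoc, adj.homEquiv_unit]
    exact adj.right_triangle_components G
  refine ⟨r, h1, ?_⟩
  obtain ⟨k, hk⟩ := (ffPush i).map_surjective (r ≫ η)
  have hk' : k = 𝟙 _ := ((adjI i).homEquiv _ _).injective
    (((adjI i).homEquiv_unit _ _ k).trans ((congrArg (fun t => η ≫ t) hk).trans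
      ((Category.assoc η r η).symm.trans ((congrArg (fun t => t ≫ η) h1).trans
        ((Category.id_comp η).trans ((adjI i).homEquiv_id H).symm)))))
  exact hk.symm.trans ((congrArg (Scheme.Modules.pushforward i).map hk').trans
    (CategoryTheory.Functor.map_id _ _))

/-- `G ↦ i^* ℋom(i_* A, G)`. -/
abbrev homClosed : P.Modules ⥤ X.Modules := homPush i A ⋙ Scheme.Modules.pullback i

/-- `i_*` of `homClosed` is `ℋom(i_* A, -)`. -/
def homClosedPushIso : homClosed i A ⋙ Scheme.Modules.pushforward i ≅ homPush i A :=
  haveI := isIso_unit_homPush i A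
  (NatIso.ofComponents (fun G => asIso ((adjI i).unit.app ((homPush i A).obj G)))
    (fun g => (adjI i).unit.naturality ((homPush i A).map g))).symm

/-- `M ↦ i_*(M ⊗ A)` is left adjoint to `homClosed`. -/
def homClosedAdj : tR A ⋙ Scheme.Modules.pushforward i ⊣ homClosed i A :=
  ((homPushAdj i A).restrictFullyFaithful (ffPush i) (Functor.FullyFaithful.id _)
    (L := Scheme.Modules.pushforward i ⋙ tR ((Scheme.Modules.pushforward i).obj A))
    (R := homClosed i A) (Functor.rightUnitor _).symm
    (Functor.leftUnitor _ ≪≫ (homClosedPushIso i A).symm)).ofNatIsoLeft (tensPush i A)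

theorem additive_homClosed : (homClosed i A).Additive :=
  haveI : (tR A).Additive := ModTensor.additive_tensorBi_flip X.sheaf A
  (homClosedAdj i A).right_adjoint_additive

theorem injective_homClosed (hA : FlatMod.IsFlat A) (I : P.Modules) (hI : Injective I) :
    Injective ((homClosed i A).obj I) :=
  haveI : (tR A).PreservesMonomorphisms :=
    ⟨fun f hf => by
      haveI : Mono (C := ModSite.Mod X.sheaf) f := hf
      exact (ModTensor.isFlat_iff_preservesMono X.sheaf A).1 ((isFlat_iff A).1 hA) f⟩
  haveI : (tR A ⋙ Scheme.Modules.pushforward i).PreservesMonomorphisms := inferInstance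
  (homClosedAdj i A).map_injective I hI

theorem nonempty_rightDerived_homClosed [HasInjectiveResolutions P.Modules]
    [HasInjectiveResolutions (ModSite.Mod P.sheaf)] [(homClosed i A).Additive] (G : P.Modules)
    (q : ℕ) (M : X.Modules)
    (hM : Nonempty ((Scheme.Modules.pushforward i).obj M ≅
      (ModSite.extSh (O := P.sheaf) ((Scheme.Modules.pushforward i).obj A) q).obj G)) :
    Nonempty (((homClosed i A).rightDerived q).obj G ≅ M) := by
  haveI : (homPush i A).Additive := ModSite.sheafHom_additive (O := P.sheaf) _
  obtain ⟨e⟩ := hM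
  exact ⟨(ffPush i).preimageIso
    ((SpSeqLib.rightDerivedPostcompIso (homClosed i A) (Scheme.Modules.pushforward i) q).symm.app G ≪≫
      (SpSeqLib.rightDerivedCongr (homClosedPushIso i A) q).app G ≪≫ e.symm)⟩

end

section

variable (A B : X.Modules)

/-- The left adjoint of the composite functor in the change of rings spectral sequence. -/
def tensPushComp : (Scheme.Modules.pullback i ⋙ tR B) ⋙ tR A ⋙ Scheme.Modules.pushforward i ≅
    tR ((Scheme.Modules.pushforward i).obj (((DCoh.tensorBi (X := X)).obj A).obj B)) :=
  Functor.associator _ _ _ ≪≫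
    Functor.isoWhiskerLeft (Scheme.Modules.pullback i) ((Functor.associator _ _ _).symm ≪≫
      Functor.isoWhiskerRight (ModTensor.tensorAssoc X.sheaf B A ≪≫
        ModTensor.tensorSymm X.sheaf (ModTensor.tens X.sheaf B A)) (Scheme.Modules.pushforward i)) ≪≫
    (tensPushRight i (((DCoh.tensorBi (X := X)).obj B).obj A)).symm ≪≫
    (DCoh.tensorBi (X := P)).flip.mapIso
      ((Scheme.Modules.pushforward i).mapIso (ModTensor.tensComm X.sheaf B A))

variable [ModSite.HasSheafHom (O := P.sheaf) ((Scheme.Modules.pushforward i).obj A)]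
  [ModSite.HasSheafHom (O := P.sheaf)
    ((Scheme.Modules.pushforward i).obj (((DCoh.tensorBi (X := X)).obj A).obj B))]
  [ModSite.HasSheafHom (O := X.sheaf) B]

/-- `i_* ℋom_X(B, homClosed A) ≅ ℋom_P(i_*(A ⊗ B), -)`. -/
def homClosedCompIso : homClosed i A ⋙ ModSite.sheafHom (O := X.sheaf) B ⋙ Scheme.Modules.pushforward i ≅
    homPush i (((DCoh.tensorBi (X := X)).obj A).obj B) :=
  Adjunction.rightAdjointUniq
    ((((adjI i).comp (ModSite.sheafHomAdj (O := X.sheaf) B)).comp (homClosedAdj i A)).ofNatIsoLeft
      (tensPushComp i A B))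
    (homPushAdj i _)

end

end Groth.Agent.ChRingLib
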